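import Mathlib
import Cfsg.Agent.Lib.Orth.Parity

/-!
# Transitivity of `Ω`: adjusting an isometry by an element of the stabiliser
-/

set_option autoImplicit false
set_option linter.unusedSectionVars false
set_option linter.unusedSimpArgs false

namespace Cfsg.Agent.Lib.Orth.Trans

open Module Matrix Cfsg Cfsg.Agent.Lib.Witt.Quadratic Cfsg.Agent.Lib.Orth.Refl Cfsg.Agent.Lib.Orth.Wall
  Cfsg.Agent.Lib.Orth.Gen Cfsg.Agent.Lib.Orth.Spin Cfsg.Agent.Lib.Orth.Omega
  Cfsg.Agent.Lib.Orth.Bridge Cfsg.Agent.Lib.Orth.Forms Cfsg.Agent.Lib.Orth.Words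
  Cfsg.Agent.Lib.Orth.Closure Cfsg.Agent.Lib.Orth.Parity
  Cfsg.Agent.Lib.QuadFn.MaxSingular QuadraticMap

section abstract

variable {F V : Type*} [Field F] [AddCommGroup V] [Module F V] {Q : QuadraticForm F V}

/-- Every nonzero vector has a hyperbolic partner. -/
theorem exists_hyp_partner (hQ : (polarBilin Q).Nondegenerate) {e : V} (he0 : e ≠ 0) (he : Q e = 0) :
    ∃ f, Q f = 0 ∧ polar Q e f = 1 := by
  obtain ⟨v, hv⟩ : ∃ v, polar Q e v ≠ 0 := by
    by_contra h
    push Not at h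
    exact he0 (hQ.1 e h)
  obtain ⟨w, h1⟩ : ∃ w, polar Q e w = 1 := ⟨(polar Q e v)⁻¹ • v, by
    simp only [polar_smul_right, smul_eq_mul]
    field_simp⟩
  refine ⟨w - Q w • e, ?_, ?_⟩
  · rw [Q_sub, QuadraticMap.map_smul, he, polar_smul_right, polar_comm, h1]
    simp
  · rw [polar_sub_right, polar_smul_right, polar_self_eq, he, h1]
    simp

variable [Finite F] [FiniteDimensional F V]

/-- Isometries in `W Q`. -/
theorem rp_sn_mul (hQ : (polarBilin Q).Nondegenerate) (hgen : ∀ g ∈ isoGroup Q, g ∈ W Q)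
    {g h : V ≃ₗ[F] V} (hg : g ∈ isoGroup Q) (hh : h ∈ isoGroup Q) :
    rp (g * h) = rp g + rp h ∧ sn Q (g * h) = sn Q g + sn Q h :=
  ⟨rp_mul hQ hgen hg hh, sn_mul hQ hgen hg hh⟩

/-- Every spinor class is the class of a non-zero scalar. -/
theorem exists_sn_eq (hQ : (polarBilin Q).Nondegenerate) {g : V ≃ₗ[F] V} (hg : g ∈ isoGroup Q) :
    ∃ c : F, c ≠ 0 ∧ sn Q g = sqc c := by
  obtain ⟨c, hc⟩ := exists_isDisc (Q := Q) g
  exact ⟨c, hc.ne_zero hQ hg, sn_eq hQ hg hc⟩

/-- A stabiliser element of a totally singular subspace with prescribed spinor class. -/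
theorem exists_levi (hQ : (polarBilin Q).Nondegenerate) {U : Submodule F V}
    (hU : TS (⇑Q) U) {e : V} (heU : e ∈ U) (he0 : e ≠ 0) {c : F} (hc : c ≠ 0) :
    ∃ t ∈ isoGroup Q, U.map (t : V →ₗ[F] V) = U ∧ rp t = 0 ∧ sn Q t = sqc c := by
  obtain ⟨f, hf, hef⟩ := exists_hyp_partner hQ he0 (hU e heU)
  have he := hU e heU
  have h1 : Q (e - f) = -1 := by
    have := Q_pair Q he hf hef 1
    rwa [one_smul] at this
  have h2 := Q_pair Q he hf hef c
  have hm1 : (-1 : F) ≠ 0 := by simp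
  have hmc : -c ≠ 0 := neg_ne_zero.mpr hc
  have hvs : ∀ v ∈ [e - f, e - c • f], Q v ≠ 0 := by
    intro v hv
    simp only [List.mem_cons, List.not_mem_nil, or_false] at hv
    rcases hv with rfl | rfl
    · rw [h1]
      exact hm1
    · rw [h2]
      exact hmc
  obtain ⟨hm, hr, hs⟩ := rp_word hQ [e - f, e - c • f] hvs
  simp only [List.map_cons, List.map_nil, List.prod_cons, List.prod_nil, mul_one, List.sum_cons, List.sum_nil,
    add_zero, List.length_cons, List.length_nil, h1, h2] at hm hr hs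
  refine ⟨_, hm, ?_, ?_, ?_⟩
  · apply Submodule.eq_of_le_of_finrank_le
    · rintro _ ⟨x, hx, rfl⟩
      show refl Q (e - f) (refl Q (e - c • f) x) ∈ U
      rw [pair_refl Q he hf hef hc]
      have hxe : polar Q x e = 0 := by
        rw [polar, hU _ (U.add_mem hx heU), hU _ hx, hU _ heU]
        simp
      rw [hxe]
      simp only [mul_zero, zero_smul, add_zero]
      exact U.add_mem hx (U.smul_mem _ heU)
    · rw [finrank_map_equiv]
  · rw [hr]
    decide
  · rw [hs, ← sqc_mul hm1 hmc]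
    simp

/-- The reflection in a vector orthogonal to `U` fixes `U`. -/
theorem map_refl_of_orth {U : Submodule F V} {v : V} (h : ∀ u ∈ U, polar Q u v = 0) :
    U.map (refl Q v : V →ₗ[F] V) = U := by
  ext x
  constructor
  · rintro ⟨y, hy, rfl⟩
    show refl Q v y ∈ U
    rw [refl_fix Q (h y hy)]
    exact hy
  · intro hx
    exact ⟨x, hx, refl_fix Q (h x hx)⟩

/-- The reflection in a vector of `U` preserves `U`. -/
theorem map_refl_of_mem [FiniteDimensional F V] {U : Submodule F V} {v : V} (h : v ∈ U) :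
    U.map (refl Q v : V →ₗ[F] V) = U := by
  apply Submodule.eq_of_le_of_finrank_le
  · rintro _ ⟨x, hx, rfl⟩
    show refl Q v x ∈ U
    rw [refl_apply]
    exact U.sub_mem hx (U.smul_mem _ h)
  · rw [finrank_map_equiv]

theorem map_mul_eq (g h : V ≃ₗ[F] V) (U : Submodule F V) :
    U.map ((g * h : V ≃ₗ[F] V) : V →ₗ[F] V) = (U.map (h : V →ₗ[F] V)).map (g : V →ₗ[F] V) := by
  ext x
  constructor
  · rintro ⟨y, hy, rfl⟩
    exact ⟨h y, ⟨y, hy, rfl⟩, rfl⟩
  · rintro ⟨_, ⟨y, hy, rfl⟩, rfl⟩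
    exact ⟨y, hy, rfl⟩

/-- Witt: totally singular subspaces of the same dimension are conjugate. -/
theorem exists_iso_map_ts (hQ : (polarBilin Q).Nondegenerate) {U W : Submodule F V}
    (hU : TS (⇑Q) U) (hW : TS (⇑Q) W) (h : finrank F U = finrank F W) :
    ∃ g ∈ isoGroup Q, U.map (g : V →ₗ[F] V) = W := by
  obtain ⟨g, hg, hg2⟩ := witt_extension hQ U W (LinearEquiv.ofFinrankEq U W h) (fun x => by
    rw [hU _ x.2, hW _ (LinearEquiv.ofFinrankEq U W h x).2])
  refine ⟨g, hg, ?_⟩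
  apply Submodule.eq_of_le_of_finrank_le
  · rintro _ ⟨x, hx, rfl⟩
    have := hg2 ⟨x, hx⟩
    show g x ∈ W
    rw [this]
    exact (LinearEquiv.ofFinrankEq U W h ⟨x, hx⟩).2
  · rw [finrank_map_equiv, h]

theorem rp_refl (hQ : (polarBilin Q).Nondegenerate) {v : V} (hv : Q v ≠ 0) : rp (refl Q v) = 1 := by
  have := (rp_word hQ [v] (by simpa using hv)).2.1
  simpa using this

theorem sn_refl (hQ : (polarBilin Q).Nondegenerate) {v : V} (hv : Q v ≠ 0) : sn Q (refl Q v) = sqc (Q v) := by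
  have := (rp_word hQ [v] (by simpa using hv)).2.2
  simpa using this

theorem nondeg_restrict (hQ : (polarBilin Q).Nondegenerate) {X : Submodule F V}
    (hX : X ⊓ LinearMap.BilinForm.orthogonal (polarBilin Q) X = ⊥) :
    (polarBilin (Q.comp X.subtype)).Nondegenerate := by
  have key : ∀ x : X, (∀ y : X, polar Q (x : V) (y : V) = 0) → x = 0 := by
    intro x hx
    have h1 : (x : V) ∈ X ⊓ LinearMap.BilinForm.orthogonal (polarBilin Q) X := by
      refine ⟨x.2, ?_⟩
      rw [SetLike.mem_coe, LinearMap.BilinForm.mem_orthogonal_iff]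
      intro n hn
      show polar Q n (x : V) = 0
      rw [polar_comm]
      exact hx ⟨n, hn⟩
    rw [hX, Submodule.mem_bot] at h1
    exact Subtype.ext h1
  constructor
  · intro x hx
    exact key x hx
  · intro y hy
    apply key y
    intro x
    rw [polar_comm]
    exact hy x

theorem exists_vec_sqc (hQ : (polarBilin Q).Nondegenerate) {X : Submodule F V}
    (hX : X ⊓ LinearMap.BilinForm.orthogonal (polarBilin Q) X = ⊥) (hdim : 2 ≤ finrank F X) {c : F} (hc : c ≠ 0) :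
    ∃ x ∈ X, Q x ≠ 0 ∧ sqc (Q x) = sqc c := by
  have hnd := nondeg_restrict hQ hX
  by_cases h2 : (2 : F) = 0
  · haveI : CharP F 2 := CharTwo.of_one_ne_zero_of_two_eq_zero one_ne_zero h2
    haveI : Nontrivial X := by
      apply Module.nontrivial_of_finrank_pos (R := F)
      omega
    obtain ⟨x, hx⟩ := exists_nonsingular (Q.comp X.subtype) hnd
    exact ⟨x, x.2, hx, by rw [sqc_of_char_two, sqc_of_char_two]⟩
  · haveI := Fintype.ofFinite F
    obtain ⟨x, hx⟩ := exists_Q_eq (Q.comp X.subtype) h2 hnd hdim c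
    have hx' : Q (x : V) = c := hx
    exact ⟨x, x.2, by rw [hx']; exact hc, by rw [hx']⟩

end abstract

section matrix

variable {F : Type*} [Field F] [Fintype F] {ι : Type} [Fintype ι] [DecidableEq ι]
  (Q : QuadraticForm F (ι → F))

/-- Make an element of `Ω` from an abstract isometry with trivial invariants. -/
theorem exists_Omega_of_iso (hQ : (polarBilin Q).Nondegenerate) (h : Fintype.card F ≠ 2 ∨ Fintype.card ι ≠ 4)
    {e : (ι → F) ≃ₗ[F] (ι → F)} (he : e ∈ isoGroup Q) (h1 : rp e = 0) (h2 : sn Q e = 0) :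
    ∃ g : isometryGroup F ⇑Q, g ∈ Omega F ⇑Q ∧
      Matrix.mulVecLin ((g : GL ι F) : Matrix ι ι F) = (e : (ι → F) →ₗ[F] (ι → F)) := by
  let g := (toIso Q).symm ⟨e, he⟩
  refine ⟨g, ?_, ?_⟩
  · rw [mem_Omega_iff Q hQ h]
    simp [g, h1, h2]
  · apply LinearMap.ext
    intro x
    rw [Matrix.mulVecLin_apply, toIso_symm_mulVec]
    rfl

/-- Finish: an adjustment by a stabiliser element with the same invariants lands in `Ω`. -/
theorem exists_Omega_of_adjust (hQ : (polarBilin Q).Nondegenerate) (h : Fintype.card F ≠ 2 ∨ Fintype.card ι ≠ 4)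
    {k t : (ι → F) ≃ₗ[F] (ι → F)} (hk : k ∈ isoGroup Q) (ht : t ∈ isoGroup Q)
    (hr : rp k = rp t) (hs : sn Q k = sn Q t) (U : Submodule F (ι → F))
    (hU : U.map (t : (ι → F) →ₗ[F] (ι → F)) = U) :
    ∃ g : isometryGroup F ⇑Q, g ∈ Omega F ⇑Q ∧
      U.map (Matrix.mulVecLin ((g : GL ι F) : Matrix ι ι F)) = U.map (k : (ι → F) →ₗ[F] (ι → F)) := by
  have hself : ∀ a : ZMod 2, a + a = 0 := by decide
  obtain ⟨h1, h2⟩ := rp_sn_mul hQ (hgen Q hQ h) hk ht
  obtain ⟨g, hg, hge⟩ := exists_Omega_of_iso Q hQ h (Subgroup.mul_mem _ hk ht)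
    (by rw [h1, hr, hself]) (by rw [h2, hs, hself])
  refine ⟨g, hg, ?_⟩
  rw [hge, map_mul_eq, hU]

/-- Transitivity on maximal totally singular subspaces in the same class. -/
theorem exists_Omega_map_max {m : ℕ} (hdim : finrank F (ι → F) = 2 * m) (hm : 1 ≤ m)
    (hQ : (polarBilin Q).Nondegenerate) (h : Fintype.card F ≠ 2 ∨ Fintype.card ι ≠ 4)
    {U W : Submodule F (ι → F)} (hU : finrank F U = m) (hW : finrank F W = m) (hU0 : TS (⇑Q) U) (hW0 : TS (⇑Q) W)
    (he : Even (m - finrank F (U ⊓ W : Submodule F (ι → F)))) :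
    ∃ g : isometryGroup F ⇑Q, g ∈ Omega F ⇑Q ∧ U.map (Matrix.mulVecLin ((g : GL ι F) : Matrix ι ι F)) = W := by
  obtain ⟨k, hk, hkW⟩ := exists_iso_map_ts hQ hU0 hW0 (hU.trans hW.symm)
  have hrp : rp k = 0 := by
    rw [rp_eq hQ hdim hU0 hU (hgen Q hQ h k hk), hkW, ZMod.natCast_eq_zero_iff_even]
    exact he
  obtain ⟨c, hc0, hsn⟩ := exists_sn_eq hQ hk
  have hne : U ≠ ⊥ := by
    rintro rfl
    simp at hU
    omega
  obtain ⟨e, heU, he0⟩ := Submodule.exists_mem_ne_zero_of_ne_bot hne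
  obtain ⟨t, ht, htU, htr, hts⟩ := exists_levi hQ hU0 heU he0 hc0
  obtain ⟨g, hg, hge⟩ := exists_Omega_of_adjust Q hQ h hk ht (hrp.trans htr.symm) (hsn.trans hts.symm) U htU
  exact ⟨g, hg, hge.trans hkW⟩

/-- Transitivity on totally singular subspaces of dimension less than half. -/
theorem exists_Omega_map_small (hQ : (polarBilin Q).Nondegenerate) (h : Fintype.card F ≠ 2 ∨ Fintype.card ι ≠ 4)
    {U W : Submodule F (ι → F)} {k : ℕ} (hk : 2 * k < Fintype.card ι) (hU : finrank F U = k) (hW : finrank F W = k)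
    (hU0 : TS (⇑Q) U) (hW0 : TS (⇑Q) W) :
    ∃ g : isometryGroup F ⇑Q, g ∈ Omega F ⇑Q ∧ U.map (Matrix.mulVecLin ((g : GL ι F) : Matrix ι ι F)) = W := by
  have S := qspace hQ
  obtain ⟨r, hr, hrW⟩ := exists_iso_map_ts hQ hU0 hW0 (hU.trans hW.symm)
  by_cases hk0 : k = 0
  · subst hk0
    have e1 : U = ⊥ := Submodule.finrank_eq_zero.mp hU
    have e2 : W = ⊥ := Submodule.finrank_eq_zero.mp hW
    refine ⟨1, Subgroup.one_mem _, ?_⟩
    rw [e1, e2]
    simp
  have hne : U ≠ ⊥ := by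
    rintro rfl
    simp at hU
    omega
  obtain ⟨e, heU, he0⟩ := Submodule.exists_mem_ne_zero_of_ne_bot hne
  -- a nonsingular vector in `U^⊥`
  obtain ⟨v, hvU, hv⟩ : ∃ v, (∀ u ∈ U, polar Q u v = 0) ∧ Q v ≠ 0 := by
    by_contra hcon
    push Not at hcon
    set O := LinearMap.BilinForm.orthogonal (polarBilin Q : LinearMap.BilinForm F (ι → F)) U with hO
    have hmemO : ∀ x ∈ O, ∀ u ∈ U, polar Q u x = 0 := by
      intro x hx u hu
      rw [hO, LinearMap.BilinForm.mem_orthogonal_iff] at hx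
      exact hx u hu
    have hOts : TS (⇑Q) O := fun x hx => hcon x (hmemO x hx)
    have h1 : O ≤ LinearMap.BilinForm.orthogonal (polarBilin Q : LinearMap.BilinForm F (ι → F)) O := S.ts_le_orth hOts
    rw [hO, LinearMap.BilinForm.orthogonal_orthogonal hQ S.isRefl] at h1
    have h2 := Submodule.finrank_mono h1
    have h3 := LinearMap.BilinForm.finrank_orthogonal hQ U
    rw [hU] at h2
    simp only [Module.finrank_fintype_fun_eq_card] at h3
    rw [hU] at h3
    omega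
  obtain ⟨c, hc0, hsn⟩ := exists_sn_eq hQ hr
  have hcases : ∀ a : ZMod 2, a = 0 ∨ a = 1 := by decide
  rcases hcases (rp r) with hr0 | hr1
  · obtain ⟨t, ht, htU, htr, hts⟩ := exists_levi hQ hU0 heU he0 hc0
    obtain ⟨g, hg, hge⟩ := exists_Omega_of_adjust Q hQ h hr ht (hr0.trans htr.symm) (hsn.trans hts.symm) U htU
    exact ⟨g, hg, hge.trans hrW⟩
  · obtain ⟨t, ht, htU, htr, hts⟩ := exists_levi hQ hU0 heU he0 (mul_ne_zero hc0 hv)
    obtain ⟨h1, h2⟩ := rp_sn_mul hQ (hgen Q hQ h) (refl_mem Q v) ht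
    have hself : ∀ a : ZMod 2, a + a = 0 := by decide
    obtain ⟨g, hg, hge⟩ := exists_Omega_of_adjust Q hQ h (t := refl Q v * t) hr (Subgroup.mul_mem _ (refl_mem Q v) ht)
      (by rw [hr1, h1, rp_refl hQ hv, htr, add_zero])
      (by
        rw [h2, sn_refl hQ hv, hts, sqc_mul hc0 hv, hsn, add_comm (sqc c), ← add_assoc, hself, zero_add])
      U (by
        rw [map_mul_eq, htU]
        exact map_refl_of_orth hvU)
    exact ⟨g, hg, hge.trans hrW⟩

/-- Transitivity on isometric nondegenerate subspaces. -/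
theorem exists_Omega_map_nondeg (hn : 3 ≤ Fintype.card ι) (hQ : (polarBilin Q).Nondegenerate)
    (h : Fintype.card F ≠ 2 ∨ Fintype.card ι ≠ 4) {U W : Submodule F (ι → F)}
    (hU : U ⊓ LinearMap.BilinForm.orthogonal (polarBilin Q) U = ⊥)
    (e : U ≃ₗ[F] W) (he : ∀ u : U, Q (e u : ι → F) = Q (u : ι → F)) :
    ∃ g : isometryGroup F ⇑Q, g ∈ Omega F ⇑Q ∧ U.map (Matrix.mulVecLin ((g : GL ι F) : Matrix ι ι F)) = W := by
  have S := qspace hQ
  obtain ⟨r, hr, hr2⟩ := witt_extension hQ U W e he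
  have hr' : r ∈ isoGroup Q := hr
  have hrW : U.map (r : (ι → F) →ₗ[F] (ι → F)) = W := by
    apply Submodule.eq_of_le_of_finrank_le
    · rintro _ ⟨x, hx, rfl⟩
      have := hr2 ⟨x, hx⟩
      show r x ∈ W
      rw [this]
      exact (e ⟨x, hx⟩).2
    · rw [finrank_map_equiv]
      exact le_of_eq e.finrank_eq.symm
  -- a big nondegenerate subspace whose reflections preserve `U`
  obtain ⟨X, hX, hXdim, hXU⟩ : ∃ X : Submodule F (ι → F),
      X ⊓ LinearMap.BilinForm.orthogonal (polarBilin Q) X = ⊥ ∧ 2 ≤ finrank F X ∧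
        ∀ x ∈ X, U.map (refl Q x : (ι → F) →ₗ[F] (ι → F)) = U := by
    have h3 := LinearMap.BilinForm.finrank_orthogonal hQ U
    simp only [Module.finrank_fintype_fun_eq_card] at h3
    have h4 : finrank F U ≤ finrank F (⊤ : Submodule F (ι → F)) := Submodule.finrank_mono le_top
    rw [finrank_top, Module.finrank_fintype_fun_eq_card] at h4
    by_cases hU2 : 2 ≤ finrank F U
    · exact ⟨U, hU, hU2, fun x hx => map_refl_of_mem hx⟩
    · refine ⟨LinearMap.BilinForm.orthogonal (polarBilin Q) U, ?_, by omega, ?_⟩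
      · rw [LinearMap.BilinForm.orthogonal_orthogonal hQ S.isRefl, inf_comm]
        exact hU
      · intro x hx
        apply map_refl_of_orth
        intro u hu
        rw [LinearMap.BilinForm.mem_orthogonal_iff] at hx
        exact hx u hu
  obtain ⟨c, hc0, hsn⟩ := exists_sn_eq hQ hr'
  obtain ⟨x, hxX, hx0, hxc⟩ := exists_vec_sqc hQ hX hXdim hc0
  obtain ⟨y, hyX, hy0, hy1⟩ := exists_vec_sqc hQ hX hXdim (one_ne_zero)
  have hcases : ∀ a : ZMod 2, a = 0 ∨ a = 1 := by decide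
  rcases hcases (rp r) with hr0 | hr1
  · obtain ⟨h1, h2⟩ := rp_sn_mul hQ (hgen Q hQ h) (refl_mem Q x) (refl_mem Q y)
    have hself : ∀ a : ZMod 2, a + a = 0 := by decide
    obtain ⟨g, hg, hge⟩ := exists_Omega_of_adjust Q hQ h (t := refl Q x * refl Q y) hr'
      (Subgroup.mul_mem _ (refl_mem Q x) (refl_mem Q y))
      (by rw [hr0, h1, rp_refl hQ hx0, rp_refl hQ hy0, hself])
      (by rw [h2, sn_refl hQ hx0, sn_refl hQ hy0, hxc, hy1, sqc_one, add_zero, hsn])
      U (by rw [map_mul_eq, hXU y hyX, hXU x hxX])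
    exact ⟨g, hg, hge.trans hrW⟩
  · obtain ⟨g, hg, hge⟩ := exists_Omega_of_adjust Q hQ h (t := refl Q x) hr' (refl_mem Q x)
      (by rw [hr1, rp_refl hQ hx0])
      (by rw [sn_refl hQ hx0, hxc, hsn])
      U (hXU x hxX)
    exact ⟨g, hg, hge.trans hrW⟩

end matrix

end Cfsg.Agent.Lib.Orth.Trans
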