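import Mathlib
import Cfsg.Agent.Lib.Orth.Trans

/-!
# Standard bases of quadratic spaces over finite fields
-/

set_option autoImplicit false
set_option linter.unusedSectionVars false
set_option linter.unusedSimpArgs false

namespace Cfsg.Agent.Lib.Orth.Std

universe u v

open Module Cfsg.Agent.Lib.Witt.Quadratic Cfsg.Agent.Lib.Orth.Refl Cfsg.Agent.Lib.Orth.Closure
  Cfsg.Agent.Lib.Orth.Trans QuadraticMap

variable {F : Type u} [Field F] [Finite F]

section basics

variable {V : Type v} [AddCommGroup V] [Module F V] [FiniteDimensional F V] {Q : QuadraticForm F V}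

local notation "orth" => LinearMap.BilinForm.orthogonal (polarBilin Q : LinearMap.BilinForm F V)

theorem isRefl_polar : (polarBilin Q : LinearMap.BilinForm F V).IsRefl := fun x y h => by
  have h1 : polar Q x y = 0 := h
  show polar Q y x = 0
  rw [polar_comm, h1]

/-- A nondegenerate space of dimension at least three contains a singular vector. -/
theorem exists_singular (hQ : (polarBilin Q).Nondegenerate) (hdim : 3 ≤ finrank F V) : ∃ e : V, e ≠ 0 ∧ Q e = 0 := by
  classical
  haveI : Nontrivial V := Module.nontrivial_of_finrank_pos (R := F) (by omega)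
  obtain ⟨a, ha⟩ := exists_nonsingular Q hQ
  have ha0 : a ≠ 0 := by
    rintro rfl
    simp at ha
  have hfr := LinearMap.BilinForm.finrank_orthogonal hQ (Submodule.span F {a})
  rw [finrank_span_singleton ha0] at hfr
  set X := LinearMap.BilinForm.orthogonal (polarBilin Q : LinearMap.BilinForm F V) (Submodule.span F {a}) with hX
  have hmemX : ∀ x ∈ X, polar Q a x = 0 := by
    intro x hx
    rw [hX, LinearMap.BilinForm.mem_orthogonal_iff] at hx
    exact hx a (Submodule.mem_span_singleton_self a)
  by_cases h2 : (2 : F) = 0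
  · -- characteristic two
    have hch : ringChar F = 2 := CharP.ringChar_of_prime_eq_zero Nat.prime_two (by exact_mod_cast h2)
    have haX : a ∈ X := by
      rw [hX, LinearMap.BilinForm.mem_orthogonal_iff]
      intro n hn
      obtain ⟨s, rfl⟩ := Submodule.mem_span_singleton.mp hn
      show polar Q (s • a) a = 0
      rw [polar_smul_left, polar_self_eq, h2]
      simp
    obtain ⟨w, hwX, hwa⟩ : ∃ w ∈ X, w ∉ Submodule.span F {a} := by
      by_contra hcon
      push Not at hcon
      have := Submodule.finrank_mono (show X ≤ Submodule.span F {a} from fun x hx => hcon x hx)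
      rw [finrank_span_singleton ha0] at this
      omega
    haveI := Fintype.ofFinite F
    obtain ⟨s, hs⟩ := FiniteField.isSquare_of_char_two hch (Q w / Q a)
    have hQw : Q w = s * s * Q a := by
      rw [← hs]
      field_simp
    refine ⟨w + s • a, ?_, ?_⟩
    · intro h0
      apply hwa
      have : w = (-s) • a := by
        rw [neg_smul]
        exact eq_neg_of_add_eq_zero_left h0
      rw [this]
      exact Submodule.smul_mem _ _ (Submodule.mem_span_singleton_self a)
    · rw [Q_add, QuadraticMap.map_smul, polar_smul_right, polar_comm, hmemX w hwX]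
      simp only [smul_eq_mul, mul_zero, add_zero]
      rw [← hQw, ← two_mul, h2, zero_mul]
  · -- odd characteristic
    have hX2 : X ⊓ LinearMap.BilinForm.orthogonal (polarBilin Q : LinearMap.BilinForm F V) X = ⊥ := by
      rw [hX, LinearMap.BilinForm.orthogonal_orthogonal hQ isRefl_polar, eq_bot_iff]
      rintro x ⟨hx1, hx2⟩
      obtain ⟨s, rfl⟩ := Submodule.mem_span_singleton.mp hx2
      have h3 := hmemX _ hx1
      rw [polar_smul_right, polar_self_eq, smul_eq_mul] at h3
      have hs : s = 0 := by
        by_contra hs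
        exact (mul_ne_zero hs (mul_ne_zero h2 ha)) h3
      simp [hs]
    haveI := Fintype.ofFinite F
    obtain ⟨x, hx⟩ := exists_Q_eq (Q.comp X.subtype) h2 (nondeg_restrict hQ hX2) (by omega) (- Q a)
    have hx' : Q (x : V) = - Q a := hx
    refine ⟨(x : V) + a, ?_, ?_⟩
    · intro h0
      have h4 : (x : V) = - a := eq_neg_of_add_eq_zero_left h0
      have h5 := hmemX x x.2
      rw [h4, polar_neg_right, polar_self_eq] at h5
      have h6 : 2 * Q a ≠ 0 := mul_ne_zero h2 ha
      exact h6 (by simpa using h5)
    · rw [Q_add, hx', polar_comm, hmemX x x.2]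
      ring

end basics

/-- A family of hyperbolic pairs. -/
structure HypFam {V : Type v} [AddCommGroup V] [Module F V] (Q : QuadraticForm F V) {k : ℕ}
    (e f : Fin k → V) : Prop where
  qe : ∀ i, Q (e i) = 0
  qf : ∀ i, Q (f i) = 0
  ef : ∀ i j, polar Q (e i) (f j) = if i = j then 1 else 0
  ee : ∀ i j, polar Q (e i) (e j) = 0
  ff : ∀ i j, polar Q (f i) (f j) = 0

theorem exists_std (d : ℕ) : ∀ (V : Type v) [AddCommGroup V] [Module F V] [FiniteDimensional F V]
    (Q : QuadraticForm F V) (_ : (polarBilin Q).Nondegenerate) (_ : finrank F V = d),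
    ∃ (k : ℕ) (e f : Fin k → V) (W : Submodule F V), HypFam Q e f ∧
      (∀ x ∈ W, ∀ i, polar Q x (e i) = 0 ∧ polar Q x (f i) = 0) ∧ (∀ x ∈ W, Q x = 0 → x = 0) ∧
      finrank F W + 2 * k = d ∧
      W ⊓ LinearMap.BilinForm.orthogonal (polarBilin Q : LinearMap.BilinForm F V) W = ⊥ := by
  classical
  induction d using Nat.strong_induction_on with
  | _ d ih =>
  intro V _ _ _ Q hQ hd
  by_cases hs : ∃ e : V, e ≠ 0 ∧ Q e = 0
  · obtain ⟨e₀, he0, hqe⟩ := hs
    obtain ⟨f₀, hqf, hef⟩ := exists_hyp_partner hQ he0 hqe
    have hfe : polar Q f₀ e₀ = 1 := by rw [polar_comm, hef]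
    have hee : polar Q e₀ e₀ = 0 := by rw [polar_self_eq, hqe, mul_zero]
    have hff : polar Q f₀ f₀ = 0 := by rw [polar_self_eq, hqf, mul_zero]
    set S : Submodule F V := Submodule.span F {e₀, f₀} with hS
    set X := LinearMap.BilinForm.orthogonal (polarBilin Q : LinearMap.BilinForm F V) S with hX
    have hmem1 : ∀ x, x ∈ X ↔ polar Q x e₀ = 0 ∧ polar Q x f₀ = 0 := by
      intro x
      rw [hX, LinearMap.BilinForm.mem_orthogonal_iff]
      constructor
      · intro h
        have h1 := h e₀ (Submodule.subset_span (by simp))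
        have h2 := h f₀ (Submodule.subset_span (by simp))
        constructor
        · rw [polar_comm]
          exact h1
        · rw [polar_comm]
          exact h2
      · rintro ⟨h1, h2⟩ n hn
        obtain ⟨a, b, rfl⟩ := Submodule.mem_span_pair.mp hn
        show polar Q (a • e₀ + b • f₀) x = 0
        rw [polar_add_left, polar_smul_left, polar_smul_left, polar_comm Q e₀, polar_comm Q f₀, h1, h2]
        simp
    have hmemS : ∀ x ∈ S, polar Q x e₀ = 0 → polar Q x f₀ = 0 → x = 0 := by
      intro x hx h1 h2
      obtain ⟨a, b, rfl⟩ := Submodule.mem_span_pair.mp hx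
      rw [polar_add_left, polar_smul_left, polar_smul_left, hee, hfe] at h1
      rw [polar_add_left, polar_smul_left, polar_smul_left, hef, hff] at h2
      simp only [smul_eq_mul, mul_one, mul_zero, zero_add, add_zero] at h1 h2
      simp [h1, h2]
    have hli : LinearIndependent F ![e₀, f₀] := by
      rw [LinearIndependent.pair_iff]
      intro a b hab
      have h1 := congrArg (fun x => polar Q x e₀) hab
      have h2 := congrArg (fun x => polar Q x f₀) hab
      simp only [polar_add_left, polar_smul_left, hee, hfe, hef, hff, polar_zero_left, smul_eq_mul, mul_one,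
        mul_zero, zero_add, add_zero] at h1 h2
      exact ⟨h2, h1⟩
    have hSdim : finrank F S = 2 := by
      have hr : Set.range ![e₀, f₀] = ({e₀, f₀} : Set V) := by
        ext x
        simp [Fin.exists_fin_two, eq_comm]
        exact or_comm
      have := finrank_span_eq_card hli
      rw [hr] at this
      simpa using this
    have hXdim := LinearMap.BilinForm.finrank_orthogonal hQ S
    rw [hSdim, hd] at hXdim
    have hd2 : 2 ≤ d := by
      rw [← hd, ← hSdim]
      exact Submodule.finrank_le S
    have hXS : X ⊓ LinearMap.BilinForm.orthogonal (polarBilin Q : LinearMap.BilinForm F V) X = ⊥ := by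
      rw [hX, LinearMap.BilinForm.orthogonal_orthogonal hQ isRefl_polar, eq_bot_iff]
      rintro x ⟨hx1, hx2⟩
      obtain ⟨h1, h2⟩ := (hmem1 x).mp hx1
      exact hmemS x hx2 h1 h2
    obtain ⟨k, e', f', W', hfam, hW1, hW2, hW3, hW4⟩ := ih (d - 2) (by omega) X (Q.comp X.subtype)
      (nondeg_restrict hQ hXS) hXdim
    have hpol : ∀ x y : X, polar (Q.comp X.subtype) x y = polar Q (x : V) (y : V) := fun x y => rfl
    refine ⟨k + 1, Fin.cons e₀ (fun i => (e' i : V)), Fin.cons f₀ (fun i => (f' i : V)), W'.map X.subtype,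
      ?_, ?_, ?_, ?_, ?_⟩
    · constructor
      · intro i
        refine Fin.cases ?_ (fun i => ?_) i
        · simpa using hqe
        · simpa using hfam.qe i
      · intro i
        refine Fin.cases ?_ (fun i => ?_) i
        · simpa using hqf
        · simpa using hfam.qf i
      · intro i j
        refine Fin.cases ?_ (fun i => ?_) i <;> refine Fin.cases ?_ (fun j => ?_) j
        · simpa using hef
        · have := ((hmem1 _).mp (f' j).2).1
          simp only [Fin.cons_zero, Fin.cons_succ, (Fin.succ_ne_zero j).symm, if_false]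
          rw [polar_comm]
          exact this
        · have := ((hmem1 _).mp (e' i).2).2
          simp only [Fin.cons_zero, Fin.cons_succ, (Fin.succ_ne_zero i), if_false]
          exact this
        · simp only [Fin.cons_succ, Fin.succ_inj]
          exact hfam.ef i j
      · intro i j
        refine Fin.cases ?_ (fun i => ?_) i <;> refine Fin.cases ?_ (fun j => ?_) j
        · simpa using hee
        · have := ((hmem1 _).mp (e' j).2).1
          simp only [Fin.cons_zero, Fin.cons_succ]
          rw [polar_comm]
          exact this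
        · have := ((hmem1 _).mp (e' i).2).1
          simp only [Fin.cons_zero, Fin.cons_succ]
          exact this
        · simp only [Fin.cons_succ]
          exact hfam.ee i j
      · intro i j
        refine Fin.cases ?_ (fun i => ?_) i <;> refine Fin.cases ?_ (fun j => ?_) j
        · simpa using hff
        · have := ((hmem1 _).mp (f' j).2).2
          simp only [Fin.cons_zero, Fin.cons_succ]
          rw [polar_comm]
          exact this
        · have := ((hmem1 _).mp (f' i).2).2
          simp only [Fin.cons_zero, Fin.cons_succ]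
          exact this
        · simp only [Fin.cons_succ]
          exact hfam.ff i j
    · rintro _ ⟨x, hx, rfl⟩ i
      refine Fin.cases ?_ (fun i => ?_) i
      · simp only [Fin.cons_zero]
        exact (hmem1 _).mp x.2
      · simp only [Fin.cons_succ]
        exact hW1 x hx i
    · rintro _ ⟨x, hx, rfl⟩ h0
      have := hW2 x hx h0
      simp [this]
    · rw [Submodule.finrank_map_subtype_eq]
      omega
    · rw [eq_bot_iff]
      rintro _ ⟨⟨x, hx, rfl⟩, hx2⟩
      have h3 : x ∈ W' ⊓ LinearMap.BilinForm.orthogonal (polarBilin (Q.comp X.subtype) : LinearMap.BilinForm F X) W' := by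
        refine ⟨hx, ?_⟩
        rw [SetLike.mem_coe, LinearMap.BilinForm.mem_orthogonal_iff]
        intro n hn
        rw [SetLike.mem_coe, LinearMap.BilinForm.mem_orthogonal_iff] at hx2
        exact hx2 (n : V) ⟨n, hn, rfl⟩
      rw [hW4] at h3
      simp at h3
      simp [h3]
  · push Not at hs
    refine ⟨0, Fin.elim0, Fin.elim0, ⊤, ⟨fun i => i.elim0, fun i => i.elim0, fun i => i.elim0, fun i => i.elim0,
      fun i => i.elim0⟩, fun _ _ i => i.elim0, ?_, ?_, ?_⟩
    · intro x _ h
      by_contra hx
      exact hs x hx h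
    · rw [finrank_top, hd]
      rfl
    · rw [top_inf_eq]
      rw [eq_bot_iff]
      intro x hx
      rw [LinearMap.BilinForm.mem_orthogonal_iff] at hx
      have : ∀ y, polar Q x y = 0 := fun y => by
        rw [polar_comm]
        exact hx y trivial
      exact hQ.1 x this

section finish

variable {V : Type v} [AddCommGroup V] [Module F V] [FiniteDimensional F V] {Q : QuadraticForm F V}

/-- Vectors orthogonal to a hyperbolic family and in its span vanish. -/
theorem eq_zero_of_mem_span {k : ℕ} {e f : Fin k → V} (hf : HypFam Q e f) {x : V}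
    (hx : x ∈ Submodule.span F (Set.range (Sum.elim e f)))
    (h : ∀ i, polar Q x (e i) = 0 ∧ polar Q x (f i) = 0) : x = 0 := by
  classical
  obtain ⟨c, rfl⟩ := (Submodule.mem_span_range_iff_exists_fun F).mp hx
  rw [Fintype.sum_sum_type] at h ⊢
  have hp : ∀ (w : V), polar Q (∑ i, c (Sum.inl i) • Sum.elim e f (Sum.inl i) + ∑ i, c (Sum.inr i) • Sum.elim e f (Sum.inr i)) w =
      ∑ i, c (Sum.inl i) * polar Q (e i) w + ∑ i, c (Sum.inr i) * polar Q (f i) w := by
    intro w
    have h1 : ∀ (s : Finset (Fin k)) (g : Fin k → V) (a : Fin k → F), polar Q (∑ i ∈ s, a i • g i) w = ∑ i ∈ s, a i * polar Q (g i) w := by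
      intro s g a
      induction s using Finset.induction_on with
      | empty => simp
      | insert i s hi ih =>
        rw [Finset.sum_insert hi, Finset.sum_insert hi, polar_add_left, polar_smul_left, ih, smul_eq_mul]
    rw [polar_add_left, h1, h1]
    rfl
  have hl : ∀ j, c (Sum.inl j) = 0 := by
    intro j
    have := (h j).2
    rw [hp] at this
    simp only [hf.ef, hf.ff, mul_zero, Finset.sum_const_zero, add_zero, mul_ite, mul_one, Finset.sum_ite_eq',
      Finset.mem_univ, if_true] at this
    exact this
  have hr : ∀ j, c (Sum.inr j) = 0 := by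
    intro j
    have := (h j).1
    rw [hp] at this
    have hfe : ∀ i, polar Q (f i) (e j) = if j = i then 1 else 0 := fun i => by
      rw [polar_comm, hf.ef]
    simp only [hf.ee, hfe, mul_zero, Finset.sum_const_zero, zero_add, mul_ite, mul_one, Finset.sum_ite_eq,
      Finset.mem_univ, if_true] at this
    exact this
  simp [hl, hr]

theorem li_fam {k : ℕ} {e f : Fin k → V} (hf : HypFam Q e f) : LinearIndependent F (Sum.elim e f) := by
  classical
  rw [Fintype.linearIndependent_iff]
  intro c hc
  have hp : ∀ (w : V), polar Q (∑ i, c i • Sum.elim e f i) w =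
      ∑ i, c (Sum.inl i) * polar Q (e i) w + ∑ i, c (Sum.inr i) * polar Q (f i) w := by
    intro w
    have h1 : ∀ (s : Finset (Fin k ⊕ Fin k)) (g : Fin k ⊕ Fin k → V) (a : Fin k ⊕ Fin k → F),
        polar Q (∑ i ∈ s, a i • g i) w = ∑ i ∈ s, a i * polar Q (g i) w := by
      intro s g a
      induction s using Finset.induction_on with
      | empty => simp
      | insert i s hi ih =>
        rw [Finset.sum_insert hi, Finset.sum_insert hi, polar_add_left, polar_smul_left, ih, smul_eq_mul]
    rw [h1, Fintype.sum_sum_type]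
    rfl
  rintro (j | j)
  · have := hp (f j)
    rw [hc, polar_zero_left] at this
    simp only [hf.ef, hf.ff, mul_zero, Finset.sum_const_zero, add_zero, mul_ite, mul_one, Finset.sum_ite_eq',
      Finset.mem_univ, if_true] at this
    exact this.symm
  · have := hp (e j)
    rw [hc, polar_zero_left] at this
    have hfe : ∀ i, polar Q (f i) (e j) = if j = i then 1 else 0 := fun i => by
      rw [polar_comm, hf.ef]
    simp only [hf.ee, hfe, mul_zero, Finset.sum_const_zero, zero_add, mul_ite, mul_one, Finset.sum_ite_eq,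
      Finset.mem_univ, if_true] at this
    exact this.symm

/-- An anisotropic nondegenerate subspace has dimension at most two. -/
theorem finrank_aniso_le (hQ : (polarBilin Q).Nondegenerate) {W : Submodule F V}
    (h1 : ∀ x ∈ W, Q x = 0 → x = 0)
    (h2 : W ⊓ LinearMap.BilinForm.orthogonal (polarBilin Q : LinearMap.BilinForm F V) W = ⊥) : finrank F W ≤ 2 := by
  by_contra hc
  obtain ⟨e, he, hqe⟩ := exists_singular (Q := Q.comp W.subtype) (nondeg_restrict hQ h2) (by omega)
  apply he
  apply Subtype.ext
  exact h1 _ e.2 hqe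

/-- Standard basis, parabolic case. -/
theorem exists_basis_odd (hQ : (polarBilin Q).Nondegenerate) {m : ℕ} (hV : finrank F V = 2 * m + 1) :
    ∃ b : Basis (Unit ⊕ (Fin m ⊕ Fin m)) F V, Q (b (Sum.inl ())) ≠ 0 ∧
      (∀ i, polar ⇑Q (b (Sum.inl ())) (b (Sum.inr (Sum.inl i))) = 0 ∧ polar ⇑Q (b (Sum.inl ())) (b (Sum.inr (Sum.inr i))) = 0) ∧
      (∀ i, Q (b (Sum.inr (Sum.inl i))) = 0 ∧ Q (b (Sum.inr (Sum.inr i))) = 0) ∧
      (∀ i j, polar ⇑Q (b (Sum.inr (Sum.inl i))) (b (Sum.inr (Sum.inr j))) = if i = j then 1 else 0) ∧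
      (∀ i j, polar ⇑Q (b (Sum.inr (Sum.inl i))) (b (Sum.inr (Sum.inl j))) = 0 ∧ polar ⇑Q (b (Sum.inr (Sum.inr i))) (b (Sum.inr (Sum.inr j))) = 0) := by
  classical
  obtain ⟨k, e, f, W, hf, hW1, hW2, hW3, hW4⟩ := exists_std _ V Q hQ hV
  have hle := finrank_aniso_le hQ hW2 hW4
  have hW1d : finrank F W = 1 := by omega
  have hk : k = m := by omega
  subst hk
  obtain ⟨x, hx0⟩ : ∃ x : W, x ≠ 0 := by
    haveI : Nontrivial W := Module.nontrivial_of_finrank_pos (R := F) (by omega)
    exact exists_ne 0
  have hx0' : (x : V) ≠ 0 := fun h => hx0 (Subtype.ext h)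
  have hQx : Q (x : V) ≠ 0 := fun h => hx0' (hW2 _ x.2 h)
  have hli : LinearIndependent F (Sum.elim (fun _ : Unit => (x : V)) (Sum.elim e f)) := by
    apply LinearIndependent.sum_type (LinearIndependent.of_subsingleton () hx0') (li_fam hf)
    rw [Submodule.disjoint_def]
    intro y hy1 hy2
    have hyW : y ∈ W := by
      have h1 : Submodule.span F (Set.range fun _ : Unit => (x : V)) ≤ W := by
        rw [Submodule.span_le]
        rintro _ ⟨_, rfl⟩
        exact x.2
      exact h1 hy1
    exact eq_zero_of_mem_span hf hy2 (hW1 y hyW)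
  have hcard : Fintype.card (Unit ⊕ (Fin k ⊕ Fin k)) = finrank F V := by
    simp [hV]
    omega
  let b := basisOfLinearIndependentOfCardEqFinrank hli hcard
  have hb : ⇑b = Sum.elim (fun _ : Unit => (x : V)) (Sum.elim e f) :=
    coe_basisOfLinearIndependentOfCardEqFinrank hli hcard
  refine ⟨b, ?_, ?_, ?_, ?_, ?_⟩
  · rw [hb]
    exact hQx
  · intro i
    rw [hb]
    exact hW1 x x.2 i
  · intro i
    rw [hb]
    exact ⟨hf.qe i, hf.qf i⟩
  · intro i j
    rw [hb]
    exact hf.ef i j
  · intro i j
    rw [hb]
    exact ⟨hf.ee i j, hf.ff i j⟩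

/-- An anisotropic plane has an elliptic basis. -/
theorem exists_elliptic_pair (hQ : (polarBilin Q).Nondegenerate) {W : Submodule F V}
    (h1 : ∀ x ∈ W, Q x = 0 → x = 0)
    (h2 : W ⊓ LinearMap.BilinForm.orthogonal (polarBilin Q : LinearMap.BilinForm F V) W = ⊥)
    (h3 : finrank F W = 2) :
    ∃ x ∈ W, ∃ y ∈ W, Q x = 1 ∧ polar Q x y = 1 ∧ (∀ t : F, t ^ 2 + t + Q y ≠ 0) ∧ LinearIndependent F ![x, y] := by
  classical
  have hnd := nondeg_restrict hQ h2
  haveI : Nontrivial W := Module.nontrivial_of_finrank_pos (R := F) (by omega)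
  haveI := Fintype.ofFinite F
  -- a vector of norm one
  obtain ⟨x, hxQ⟩ : ∃ x : W, Q (x : V) = 1 := by
    by_cases h20 : (2 : F) = 0
    · have hch : ringChar F = 2 := CharP.ringChar_of_prime_eq_zero Nat.prime_two (by exact_mod_cast h20)
      obtain ⟨w, hw⟩ := exists_ne (0 : W)
      have hQw : Q (w : V) ≠ 0 := fun h => hw (Subtype.ext (h1 _ w.2 h))
      obtain ⟨s, hs⟩ := FiniteField.isSquare_of_char_two hch (Q (w : V))
      have hs0 : s ≠ 0 := by
        rintro rfl
        exact hQw (by simpa using hs)
      refine ⟨s⁻¹ • w, ?_⟩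
      show Q (s⁻¹ • (w : V)) = 1
      rw [QuadraticMap.map_smul, smul_eq_mul, hs]
      field_simp
    · exact exists_Q_eq (Q.comp W.subtype) h20 hnd (by omega) 1
  have hx0 : (x : V) ≠ 0 := by
    intro h
    rw [h] at hxQ
    simp at hxQ
  -- a partner
  obtain ⟨y, hxy, hyx⟩ : ∃ y : W, polar Q (x : V) (y : V) = 1 ∧ (y : V) ∉ Submodule.span F {(x : V)} := by
    by_cases h20 : (2 : F) = 0
    · obtain ⟨y₀, hy₀⟩ : ∃ y₀ : W, polar Q (x : V) (y₀ : V) ≠ 0 := by
        by_contra hcon
        push Not at hcon
        have hx00 : x = 0 := hnd.1 x (fun y => hcon y)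
        exact hx0 (by simp [hx00])
      refine ⟨(polar Q (x : V) (y₀ : V))⁻¹ • y₀, ?_, ?_⟩
      · show polar Q (x : V) ((polar Q (x : V) (y₀ : V))⁻¹ • (y₀ : V)) = 1
        rw [polar_smul_right, smul_eq_mul]
        field_simp
      · intro hmem
        obtain ⟨s, hs⟩ := Submodule.mem_span_singleton.mp hmem
        have h4 : polar Q (x : V) (s • (x : V)) = 0 := by
          rw [polar_smul_right, polar_self_eq, h20]
          simp
        rw [hs] at h4
        have h5 : polar Q (x : V) ((polar Q (x : V) (y₀ : V))⁻¹ • (y₀ : V)) = 1 := by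
          rw [polar_smul_right, smul_eq_mul]
          field_simp
        have h6 : ((((polar Q (x : V) (y₀ : V))⁻¹ • y₀ : W)) : V) = (polar Q (x : V) (y₀ : V))⁻¹ • (y₀ : V) := rfl
        rw [h6] at h4
        rw [h4] at h5
        exact zero_ne_one h5
    · obtain ⟨y₀, hy₀⟩ : ∃ y₀ : W, (y₀ : V) ∉ Submodule.span F {(x : V)} := by
        by_contra hcon
        push Not at hcon
        have h4 : (⊤ : Submodule F W) ≤ Submodule.span F {x} := by
          intro z _
          obtain ⟨s, hs⟩ := Submodule.mem_span_singleton.mp (hcon z)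
          exact Submodule.mem_span_singleton.mpr ⟨s, Subtype.ext hs⟩
        have h5 := Submodule.finrank_mono h4
        rw [finrank_top, h3] at h5
        have h6 := finrank_span_singleton (K := F) (show x ≠ 0 from fun h => hx0 (by simp [h]))
        omega
      let κ : F := (1 - polar Q (x : V) (y₀ : V)) / 2
      refine ⟨y₀ + κ • x, ?_, ?_⟩
      · show polar Q (x : V) ((y₀ : V) + κ • (x : V)) = 1
        rw [polar_add_right, polar_smul_right, polar_self_eq, hxQ, smul_eq_mul]
        simp only [κ]
        field_simp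
        ring
      · intro hmem
        apply hy₀
        have h4 : (y₀ : V) = ((y₀ + κ • x : W) : V) - κ • (x : V) := by
          simp
        rw [h4]
        exact Submodule.sub_mem _ hmem (Submodule.smul_mem _ _ (Submodule.mem_span_singleton_self _))
  refine ⟨x, x.2, y, y.2, hxQ, hxy, ?_, ?_⟩
  · intro t ht
    have h4 : Q (t • (x : V) + (y : V)) = 0 := by
      rw [Q_add, QuadraticMap.map_smul, polar_smul_left, hxQ, hxy]
      simp only [smul_eq_mul, mul_one]
      linear_combination ht
    have h5 := h1 _ (W.add_mem (W.smul_mem t x.2) y.2) h4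
    apply hyx
    have h6 : (y : V) = (-t) • (x : V) := by
      rw [neg_smul]
      exact eq_neg_of_add_eq_zero_right h5
    rw [h6]
    exact Submodule.smul_mem _ _ (Submodule.mem_span_singleton_self _)
  · rw [LinearIndependent.pair_iff]
    intro a b hab
    have hb0 : b = 0 := by
      by_contra hb
      apply hyx
      have h6 : (y : V) = (-(a / b)) • (x : V) := by
        have : b • (y : V) = (-a) • (x : V) := by
          rw [neg_smul]
          exact eq_neg_of_add_eq_zero_right hab
        calc (y : V) = b⁻¹ • (b • (y : V)) := by rw [smul_smul, inv_mul_cancel₀ hb, one_smul]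
          _ = _ := by
            rw [this, smul_smul]
            congr 1
            field_simp
      rw [h6]
      exact Submodule.smul_mem _ _ (Submodule.mem_span_singleton_self _)
    subst hb0
    simp only [zero_smul, add_zero] at hab
    refine ⟨?_, rfl⟩
    exact (smul_eq_zero.mp hab).resolve_right hx0

end finish

end Cfsg.Agent.Lib.Orth.Std
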