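import Mathlib
import Cfsg.Agent.Lib.Orth.Std
import Cfsg.Agent.Lib.Orth.Parity

/-!
# A nondegenerate quadratic space with a totally singular subspace of half the dimension is hyperbolic
-/

set_option autoImplicit false
set_option linter.unusedSectionVars false
set_option linter.unusedSimpArgs false

namespace Cfsg.Agent.Lib.Orth.HypBasis

open Module Cfsg Cfsg.Agent.Lib.Orth.Std Cfsg.Agent.Lib.Orth.Parity Cfsg.Agent.Lib.Orth.Refl
  Cfsg.Agent.Lib.QuadFn.MaxSingular QuadraticMap

universe u v

variable {F : Type u} [Field F] [Finite F] {V : Type v} [AddCommGroup V] [Module F V]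
  [FiniteDimensional F V] {Q : QuadraticForm F V}

theorem polar_sum_right {ι : Type*} (s : Finset ι) (v : V) (w : ι → V) :
    polar Q v (∑ i ∈ s, w i) = ∑ i ∈ s, polar Q v (w i) :=
  map_sum ((polarBilin Q : LinearMap.BilinForm F V) v) w s

theorem exists_hypFam_of_ts (hQ : (polarBilin Q).Nondegenerate) {m : ℕ} (hdim : finrank F V = 2 * m)
    {U : Submodule F V} (hU : TS (⇑Q) U) (hUm : finrank F U = m) :
    ∃ e f : Fin m → V, HypFam Q e f := by
  classical
  obtain ⟨k, e, f, W, hf, hW1, hW2, hW3, hW4⟩ := exists_std _ V Q hQ hdim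
  have hle := finrank_aniso_le hQ hW2 hW4
  by_cases hk : k = m
  · subst hk
    exact ⟨e, f, hf⟩
  exfalso
  have hWd : finrank F W = 2 := by omega
  have hkm : k + 1 = m := by omega
  have S := qspace hQ
  set H : Submodule F V := Submodule.span F (Set.range e) with hH
  have hli : LinearIndependent F e := (li_fam hf).comp Sum.inl Sum.inl_injective
  have hHd : finrank F H = k := by
    rw [hH, finrank_span_eq_card hli]
    simp
  have hH1 : ∀ x ∈ H, ∀ i, polar Q x (e i) = 0 := by
    intro x hx i
    induction hx using Submodule.span_induction with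
    | mem x hx =>
      obtain ⟨j, rfl⟩ := hx
      exact hf.ee j i
    | zero => simp
    | add x y _ _ hx hy => rw [polar_add_left, hx, hy, add_zero]
    | smul c x _ hx => rw [polar_smul_left, hx, smul_zero]
  have hH2 : ∀ y ∈ H, ∀ x ∈ H, polar Q x y = 0 := by
    intro y hy x hx
    induction hy using Submodule.span_induction with
    | mem y hy =>
      obtain ⟨j, rfl⟩ := hy
      exact hH1 x hx j
    | zero => simp
    | add y z _ _ hy hz => rw [polar_add_right, hy, hz, add_zero]
    | smul c y _ hy => rw [polar_smul_right, hy, smul_zero]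
  have hHts : TS (⇑Q) H := by
    intro x hx
    induction hx using Submodule.span_induction with
    | mem x hx =>
      obtain ⟨j, rfl⟩ := hx
      exact hf.qe j
    | zero => simp
    | add x y hx' hy' hx hy =>
      rw [Q_add, hx, hy, hH2 y hy' x hx']
      simp
    | smul c x _ hx =>
      rw [QuadraticMap.map_smul, hx, smul_zero]
  have h1 := S.finrank_inf_orth hdim hU hUm H
  obtain ⟨a, haU, haH', haH⟩ : ∃ a, a ∈ U ∧
      a ∈ LinearMap.BilinForm.orthogonal (polarBilin Q : LinearMap.BilinForm F V) H ∧ a ∉ H := by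
    by_contra hc
    push Not at hc
    have h2 : (U ⊓ LinearMap.BilinForm.orthogonal (polarBilin Q : LinearMap.BilinForm F V) H : Submodule F V) ≤ U ⊓ H :=
      fun x hx => ⟨hx.1, hc x hx.1 hx.2⟩
    have h3 := Submodule.finrank_mono h2
    omega
  have haE : ∀ j, polar Q a (e j) = 0 := by
    intro j
    have := (LinearMap.BilinForm.mem_orthogonal_iff.mp haH') (e j)
      (Submodule.subset_span ⟨j, rfl⟩)
    have h4 : polar Q (e j) a = 0 := this
    rw [polar_comm]
    exact h4
  set h₀ : V := ∑ i, polar Q a (f i) • e i with hh₀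
  have hh₀H : h₀ ∈ H :=
    Submodule.sum_mem _ fun i _ => H.smul_mem _ (Submodule.subset_span ⟨i, rfl⟩)
  set a' : V := a - h₀ with ha'
  have hpe : ∀ j, polar Q a' (e j) = 0 := by
    intro j
    rw [ha', polar_sub_left, haE j, hH1 h₀ hh₀H j, sub_zero]
  have hpf : ∀ j, polar Q a' (f j) = 0 := by
    intro j
    rw [ha', polar_sub_left, hh₀]
    have h5 : polar Q (∑ i, polar Q a (f i) • e i) (f j) = polar Q a (f j) := by
      have hfe : ∀ i, polar Q (f j) (e i) = if i = j then 1 else 0 := fun i => by
        rw [polar_comm, hf.ef]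
      rw [polar_comm, polar_sum_right]
      simp only [polar_smul_right, hfe, smul_eq_mul, mul_ite, mul_one, mul_zero,
        Finset.sum_ite_eq', Finset.mem_univ, if_true]
    rw [h5, sub_self]
  have hspan : finrank F (Submodule.span F (Set.range (Sum.elim e f))) = 2 * k := by
    rw [finrank_span_eq_card (li_fam hf)]
    simp
    omega
  have hX := LinearMap.BilinForm.finrank_orthogonal hQ (Submodule.span F (Set.range (Sum.elim e f)))
  set X := LinearMap.BilinForm.orthogonal (polarBilin Q : LinearMap.BilinForm F V) (Submodule.span F (Set.range (Sum.elim e f)))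
    with hXdef
  have hmemX : ∀ x, (∀ j, polar Q x (e j) = 0 ∧ polar Q x (f j) = 0) → x ∈ X := by
    intro x hx
    rw [hXdef, LinearMap.BilinForm.mem_orthogonal_iff]
    intro n hn
    show polar Q n x = 0
    rw [polar_comm]
    induction hn using Submodule.span_induction with
    | mem y hy =>
      obtain ⟨j | j, rfl⟩ := hy
      · exact (hx j).1
      · exact (hx j).2
    | zero => simp
    | add y z _ _ hy hz => rw [polar_add_right, hy, hz, add_zero]
    | smul c y _ hy => rw [polar_smul_right, hy, smul_zero]
  have hWX : W = X := by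
    apply Submodule.eq_of_le_of_finrank_le
    · intro x hx
      exact hmemX x (hW1 x hx)
    · omega
  have ha'W : a' ∈ W := by
    rw [hWX]
    exact hmemX a' fun j => ⟨hpe j, hpf j⟩
  have hQa' : Q a' = 0 := by
    have h6 : a' = a + (-h₀) := sub_eq_add_neg a h₀
    rw [h6, Q_add, hU a haU, QuadraticMap.map_neg, hHts h₀ hh₀H, polar_neg_right]
    have h7 : polar Q a h₀ = 0 := by
      rw [polar_comm]
      have := (LinearMap.BilinForm.mem_orthogonal_iff.mp haH') h₀ hh₀H
      exact this
    rw [h7]
    simp
  have ha'0 := hW2 a' ha'W hQa'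
  apply haH
  have : a = h₀ := sub_eq_zero.1 ha'0
  rw [this]
  exact hh₀H

theorem Q_sum {m : ℕ} {e f : Fin m → V} (hf : HypFam Q e f) (x y : Fin m → F) (s : Finset (Fin m)) :
    Q (∑ i ∈ s, (x i • e i + y i • f i)) = ∑ i ∈ s, x i * y i := by
  classical
  induction s using Finset.induction_on with
  | empty => simp
  | insert j s hj ih =>
    rw [Finset.sum_insert hj, Finset.sum_insert hj, Q_add, ih, polar_sum_right]
    have h1 : Q (x j • e j + y j • f j) = x j * y j := by
      rw [Q_add, QuadraticMap.map_smul, QuadraticMap.map_smul, hf.qe, hf.qf, polar_smul_left,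
        polar_smul_right, hf.ef]
      simp
    have h2 : ∀ i ∈ s, polar Q (x j • e j + y j • f j) (x i • e i + y i • f i) = 0 := by
      intro i hi
      have hji : j ≠ i := fun h => hj (h ▸ hi)
      have hfe : polar Q (f j) (e i) = 0 := by
        rw [polar_comm, hf.ef, if_neg hji.symm]
      rw [polar_add_left, polar_add_right, polar_add_right]
      simp only [polar_smul_left, polar_smul_right, hf.ee, hf.ff, hf.ef, hfe, if_neg hji]
      simp
    rw [h1, Finset.sum_eq_zero h2]
    ring

/-- A hyperbolic family spanning the space gives an isometry with the standard hyperbolic form. -/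
theorem exists_equiv_plus {m : ℕ} (hdim : finrank F V = 2 * m) {e f : Fin m → V} (hf : HypFam Q e f) :
    ∃ Θ : (Fin m ⊕ Fin m → F) ≃ₗ[F] V, ∀ x, Q (Θ x) = quadFormPlus m F x := by
  classical
  have hfr : finrank F (Fin m ⊕ Fin m → F) = finrank F V := by
    rw [hdim, Module.finrank_fintype_fun_eq_card]
    simp
    omega
  let L : (Fin m ⊕ Fin m → F) →ₗ[F] V := Fintype.linearCombination F (Sum.elim e f)
  have hL : Function.Injective L := linearIndependent_iff_injective_fintypeLinearCombination.1 (li_fam hf)
  refine ⟨LinearEquiv.ofInjectiveOfFinrankEq L hL hfr, fun x => ?_⟩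
  show Q (L x) = _
  show Q (∑ i, x i • Sum.elim e f i) = _
  rw [Fintype.sum_sum_type]
  simp only [Sum.elim_inl, Sum.elim_inr]
  rw [← Finset.sum_add_distrib, Q_sum hf (fun i => x (Sum.inl i)) (fun i => x (Sum.inr i))]
  rfl

/-- **Lemma A**: a nondegenerate quadratic space of dimension `2m` with a totally singular subspace of
dimension `m` is isometric to the standard hyperbolic space. -/
theorem exists_equiv_plus_of_ts (hQ : (polarBilin Q).Nondegenerate) {m : ℕ} (hdim : finrank F V = 2 * m)
    {U : Submodule F V} (hU : TS (⇑Q) U) (hUm : finrank F U = m) :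
    ∃ Θ : (Fin m ⊕ Fin m → F) ≃ₗ[F] V, ∀ x, Q (Θ x) = quadFormPlus m F x := by
  obtain ⟨e, f, hf⟩ := exists_hypFam_of_ts hQ hdim hU hUm
  exact exists_equiv_plus hdim hf

end Cfsg.Agent.Lib.Orth.HypBasis
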